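import Mathlib

/-!
helper98 library (Serre duality chain, piece D3): the contravariant long exact `Ext` sequence in an
`R`-linear abelian category, in the form of linear connecting maps with their kernels and ranges.
-/

set_option autoImplicit false

universe w t v u

open CategoryTheory Abelian

namespace Groth.Agent.H98.SD3

variable {R : Type t} [CommRing R] {C : Type u} [Category.{v} C] [Abelian C] [Linear R C]
  [HasExt.{w} C]

variable {S : ShortComplex C} (hS : S.ShortExact) (Y : C)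

/-- the connecting map `Hom(X₁, Y) → Ext¹(X₃, Y)` -/
noncomputable def δ₀ : (S.X₁ ⟶ Y) →ₗ[R] Ext S.X₃ Y 1 :=
  (Ext.precompOfLinear hS.extClass R Y (rfl : 1 + 0 = 1)) ∘ₗ
    (Ext.linearEquiv₀ (R := R) (X := S.X₁) (Y := Y)).symm.toLinearMap

theorem δ₀_apply (φ : S.X₁ ⟶ Y) : δ₀ (R := R) hS Y φ = hS.extClass.comp (Ext.mk₀ φ) rfl := rfl

theorem ker_δ₀ : LinearMap.ker (δ₀ (R := R) hS Y) = LinearMap.range (Linear.leftComp R Y S.f) := by
  ext φ
  rw [LinearMap.mem_ker, δ₀_apply, LinearMap.mem_range]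
  constructor
  · intro h
    obtain ⟨x₂, hx₂⟩ := Ext.contravariant_sequence_exact₁ hS Y (Ext.mk₀ φ) rfl h
    obtain ⟨ψ, rfl⟩ := Ext.homEquiv₀.symm.surjective x₂
    refine ⟨ψ, ?_⟩
    change S.f ≫ ψ = φ
    apply Ext.homEquiv₀.symm.injective
    change Ext.mk₀ (S.f ≫ ψ) = Ext.mk₀ φ
    rw [← hx₂, ← Ext.mk₀_comp_mk₀]
    rfl
  · rintro ⟨ψ, rfl⟩
    change hS.extClass.comp (Ext.mk₀ (S.f ≫ ψ)) rfl = 0
    rw [← Ext.mk₀_comp_mk₀, ← Ext.comp_assoc _ _ _ (add_zero 1) (zero_add 0) (by omega),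
      ShortComplex.ShortExact.extClass_comp, Ext.zero_comp]

theorem δ₀_surjective (h : Subsingleton (Ext S.X₂ Y 1)) :
    Function.Surjective (δ₀ (R := R) hS Y) := by
  intro x₃
  obtain ⟨x₁, hx₁⟩ := Ext.contravariant_sequence_exact₃ hS Y x₃ (Subsingleton.elim _ _)
    (rfl : 1 + 0 = 1)
  obtain ⟨φ, rfl⟩ := Ext.homEquiv₀.symm.surjective x₁
  exact ⟨φ, hx₁⟩

/-- the connecting map `Ext^i(X₁, Y) → Ext^{i+1}(X₃, Y)` -/
noncomputable def δ (i : ℕ) : Ext S.X₁ Y i →ₗ[R] Ext S.X₃ Y (i + 1) :=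
  Ext.precompOfLinear hS.extClass R Y (Nat.add_comm 1 i)

theorem δ_apply (i : ℕ) (x : Ext S.X₁ Y i) :
    δ (R := R) hS Y i x = hS.extClass.comp x (Nat.add_comm 1 i) := rfl

theorem δ_bijective (i : ℕ) (h1 : Subsingleton (Ext S.X₂ Y i))
    (h2 : Subsingleton (Ext S.X₂ Y (i + 1))) : Function.Bijective (δ (R := R) hS Y i) := by
  constructor
  · rw [← LinearMap.ker_eq_bot, LinearMap.ker_eq_bot']
    intro x hx
    obtain ⟨x₂, hx₂⟩ := Ext.contravariant_sequence_exact₁ hS Y x (Nat.add_comm 1 i) hx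
    rw [← hx₂, Subsingleton.elim x₂ 0, Ext.comp_zero]
  · intro x₃
    obtain ⟨x₁, hx₁⟩ := Ext.contravariant_sequence_exact₃ hS Y x₃ (Subsingleton.elim _ _)
      (Nat.add_comm 1 i)
    exact ⟨x₁, hx₁⟩

include hS in
theorem subsingleton_ext_X₂ (i : ℕ) (h1 : Subsingleton (Ext S.X₁ Y i))
    (h3 : Subsingleton (Ext S.X₃ Y i)) : Subsingleton (Ext S.X₂ Y i) := by
  refine ⟨fun x y => ?_⟩
  have key : ∀ z : Ext S.X₂ Y i, z = 0 := by
    intro z
    obtain ⟨x₃, hx₃⟩ := Ext.contravariant_sequence_exact₂ hS Y z (Subsingleton.elim _ _)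
    rw [← hx₃, Subsingleton.elim x₃ 0, Ext.comp_zero]
  rw [key x, key y]

end Groth.Agent.H98.SD3
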