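import Mathlib

/-!
helper98 library (Serre duality chain, piece D3): small linear algebra lemmas.
-/

set_option autoImplicit false

namespace Groth.Agent.H98.SD3

section Ring

variable {k : Type*} [Ring k] {V W₁ W₂ : Type*} [AddCommGroup V] [Module k V]
  [AddCommGroup W₁] [Module k W₁] [AddCommGroup W₂] [Module k W₂]

/-- two surjective linear maps with the same kernel have isomorphic targets -/
theorem nonempty_linearEquiv_of_surjective_of_ker_eq (f : V →ₗ[k] W₁) (g : V →ₗ[k] W₂)
    (hf : Function.Surjective f) (hg : Function.Surjective g)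
    (h : LinearMap.ker f = LinearMap.ker g) : Nonempty (W₁ ≃ₗ[k] W₂) :=
  ⟨(f.quotKerEquivOfSurjective hf).symm ≪≫ₗ (Submodule.quotEquivOfEq _ _ h) ≪≫ₗ
    g.quotKerEquivOfSurjective hg⟩

/-- an injective linear map whose range is `N` gives an isomorphism onto `N` -/
theorem nonempty_linearEquiv_of_injective_of_range_eq (f : V →ₗ[k] W₁) (N : Submodule k W₁)
    (hf : Function.Injective f) (h : LinearMap.range f = N) : Nonempty (V ≃ₗ[k] N) :=
  ⟨(LinearEquiv.ofInjective f hf) ≪≫ₗ LinearEquiv.ofEq _ _ h⟩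

end Ring

section Field

variable {k : Type*} [Field k] {VE VK HE HK : Type*} [AddCommGroup VE] [Module k VE]
  [AddCommGroup VK] [Module k VK] [AddCommGroup HE] [Module k HE] [AddCommGroup HK] [Module k HK]

/-- the composite `VK → HK^∨ → (ker b)^∨` is surjective -/
theorem surjective_dualRestrict_comp (b : HK →ₗ[k] HE) (DK : VK →ₗ[k] Module.Dual k HK)
    (hDK : Function.Surjective DK) :
    Function.Surjective ((LinearMap.ker b).dualRestrict ∘ₗ DK) := by
  rw [LinearMap.coe_comp]
  exact (Subspace.dualRestrict_surjective (W := LinearMap.ker b)).comp hDK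

/-- the kernel of `VK → HK^∨ → (ker b)^∨` is the range of `a : VE → VK` when the duality maps
intertwine `a` with the transpose of `b` -/
theorem ker_dualRestrict_comp_eq_range (a : VE →ₗ[k] VK) (b : HK →ₗ[k] HE)
    (DE : VE →ₗ[k] Module.Dual k HE) (DK : VK →ₗ[k] Module.Dual k HK)
    (hDE : Function.Surjective DE) (hDK : Function.Injective DK)
    (hcomm : ∀ φ, DK (a φ) = b.dualMap (DE φ)) :
    LinearMap.ker ((LinearMap.ker b).dualRestrict ∘ₗ DK) = LinearMap.range a := by
  ext φ
  rw [LinearMap.mem_ker, LinearMap.comp_apply, ← LinearMap.mem_ker,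
    Submodule.dualRestrict_ker_eq_dualAnnihilator, ← LinearMap.range_dualMap_eq_dualAnnihilator_ker]
  constructor
  · rintro ⟨ψ, hψ⟩
    obtain ⟨φE, rfl⟩ := hDE ψ
    exact ⟨φE, hDK ((hcomm φE).trans hψ)⟩
  · rintro ⟨φE, rfl⟩
    exact ⟨DE φE, (hcomm φE).symm⟩

/-- the cokernel of `a` is the dual of the kernel of `b` -/
theorem nonempty_linearEquiv_dual_ker {W : Type*} [AddCommGroup W] [Module k W]
    (a : VE →ₗ[k] VK) (b : HK →ₗ[k] HE)
    (DE : VE →ₗ[k] Module.Dual k HE) (DK : VK →ₗ[k] Module.Dual k HK)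
    (hDE : Function.Surjective DE) (hDK : Function.Bijective DK)
    (hcomm : ∀ φ, DK (a φ) = b.dualMap (DE φ))
    (δ : VK →ₗ[k] W) (hδ : Function.Surjective δ) (hker : LinearMap.ker δ = LinearMap.range a) :
    Nonempty (W ≃ₗ[k] Module.Dual k (LinearMap.ker b)) :=
  nonempty_linearEquiv_of_surjective_of_ker_eq δ _ hδ
    (surjective_dualRestrict_comp b DK hDK.2)
    (hker.trans (ker_dualRestrict_comp_eq_range a b DE DK hDE hDK.1 hcomm).symm)

end Field

end Groth.Agent.H98.SD3
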