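import Mathlib
import Groth.Prelude.Def_Coh
import Groth.Prelude.Def_KLin
import Groth.Prelude.Def_Canon
import Groth.Agent.Lead.Coh.FiniteLES
import Groth.Agent.H86.Serre.Basic
import Groth.Agent.H98.SD3.LinAlg
import Groth.Agent.H98.SD3.ExtShift

/-!
helper98 library (Serre duality chain, piece D3): the abstract dimension-shifting argument.

`X` is a scheme over a field `k`, `ω` an `O_X`-module, `t : H^n(X, ω) → k` a linear form and `P` a class
of modules such that
* `ω` represents `F ↦ H^n(X, F)^∨` on `P` (through `t`);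
* every `F` in `P` sits in a short exact sequence `0 → K → E → F → 0` with `K`, `E` in `P`,
  `Ext^i(E, ω) = 0` for `i > 0` and `H^j(X, E) = 0` for `j < n`.
Then `Ext^i(F, ω) ≃ H^{n-i}(X, F)^∨` for `i ≤ n` and `Ext^i(F, ω) = 0` for `i > n`, for all `F` in `P`.
-/

set_option autoImplicit false
universe u
open CategoryTheory CategoryTheory.Limits AlgebraicGeometry Abelian

namespace Groth.Agent.H98.SD3

open Groth.Agent.Lead.FiniteLES

variable {k : Type u} [Field k] {X : Scheme.{u}} [X.Over (Spec (CommRingCat.of k))]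

theorem HHlin_apply {F G : X.Modules} (φ : F ⟶ G) (r : ℕ) (x : Coh.HH X F r) :
    Canon.HHlin k φ r x = HHmap φ r x := rfl

theorem HHlin_add {F G : X.Modules} (φ ψ : F ⟶ G) (r : ℕ) :
    Canon.HHlin k (φ + ψ) r = Canon.HHlin k φ r + Canon.HHlin k ψ r := by
  ext x
  rw [LinearMap.add_apply, HHlin_apply, HHlin_apply, HHlin_apply, Groth.Agent.H86.Serre.HHmap_add]
  rfl

theorem HHlin_comp {F G H : X.Modules} (φ : F ⟶ G) (ψ : G ⟶ H) (r : ℕ) :
    Canon.HHlin k (φ ≫ ψ) r = Canon.HHlin k ψ r ∘ₗ Canon.HHlin k φ r := by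
  ext x
  rw [LinearMap.comp_apply, HHlin_apply, HHlin_apply, HHlin_apply, HHmap_comp]
  rfl

theorem HHlin_smulMod (F : X.Modules) (a : k) (r : ℕ) (x : Coh.HH X F r) :
    Canon.HHlin k (Formal.smulMod k F a) r x = a • x := rfl

theorem HHlin_smul {F G : X.Modules} (a : k) (φ : F ⟶ G) (r : ℕ) :
    Canon.HHlin k (a • φ) r = a • Canon.HHlin k φ r := by
  ext x
  rw [KLin.smul_def, HHlin_comp, LinearMap.comp_apply, HHlin_smulMod, LinearMap.smul_apply,
    LinearMap.map_smul]

variable (ω : X.Modules) (n : ℕ) (t : Coh.HH X ω n →ₗ[k] k)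

/-- the duality map `φ ↦ t ∘ H^n(φ)`, as a linear map -/
noncomputable def D (F : X.Modules) : (F ⟶ ω) →ₗ[k] Module.Dual k (Coh.HH X F n) where
  toFun φ := Canon.dualityMap k X n ω t F φ
  map_add' φ ψ := by
    change t ∘ₗ Canon.HHlin k (φ + ψ) n = t ∘ₗ Canon.HHlin k φ n + t ∘ₗ Canon.HHlin k ψ n
    rw [HHlin_add, LinearMap.comp_add]
  map_smul' a φ := by
    change t ∘ₗ Canon.HHlin k (a • φ) n = a • (t ∘ₗ Canon.HHlin k φ n)
    rw [HHlin_smul, LinearMap.comp_smul]

theorem D_apply (F : X.Modules) (φ : F ⟶ ω) (x : Coh.HH X F n) :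
    D ω n t F φ x = t (HHmap φ n x) := rfl

theorem D_comp {F G : X.Modules} (f : F ⟶ G) (φ : G ⟶ ω) :
    D ω n t F (f ≫ φ) = (toA k (HHmap f n)).dualMap (D ω n t G φ) := by
  ext x
  rw [D_apply, HHmap_comp]
  rfl

/-- the hypothesis on resolutions -/
def HasGoodRes [HasExt.{u} X.Modules] (P : X.Modules → Prop) (ω : X.Modules) (n : ℕ) : Prop :=
  ∀ F : X.Modules, P F → ∃ S : ShortComplex X.Modules, S.ShortExact ∧ S.X₃ = F ∧ P S.X₁ ∧ P S.X₂ ∧
    (∀ i : ℕ, 0 < i → Subsingleton (Ext S.X₂ ω i)) ∧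
    (∀ j : ℕ, j < n → Subsingleton (Coh.HH X S.X₂ j))

section LES

variable (S : ShortComplex X.Modules) (hS : S.ShortExact)

/-- `HHδ` is injective when `H^j(X₂) = 0` -/
theorem HHδ_injective (j : ℕ) (h : Subsingleton (Coh.HH X S.X₂ j)) :
    Function.Injective (toA k (HHδ S hS j)) := by
  rw [← LinearMap.ker_eq_bot, LinearMap.ker_eq_bot']
  intro x hx
  have hx' : x ∈ LinearMap.ker (HHδ S hS j) := hx
  rw [ker_HHδ] at hx'
  obtain ⟨y, rfl⟩ := hx'
  rw [Subsingleton.elim y 0, map_zero]

/-- the range of `HHδ` is the kernel of `H^{j+1}(f)` -/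
theorem range_HHδ (j : ℕ) :
    LinearMap.range (toA k (HHδ S hS j)) = LinearMap.ker (toA k (HHmap S.f (j + 1))) := by
  ext x
  rw [range_toA, ker_toA, ker_HHmap_f_succ S hS]

theorem HHδ_bijective (j : ℕ) (h : Subsingleton (Coh.HH X S.X₂ j))
    (h' : Subsingleton (Coh.HH X S.X₂ (j + 1))) :
    Function.Bijective (toA k (HHδ S hS j)) := by
  refine ⟨HHδ_injective S hS j h, ?_⟩
  rw [← LinearMap.range_eq_top, range_HHδ, LinearMap.ker_eq_top]
  ext x
  exact Subsingleton.elim _ _

end LES

variable [HasExt.{u} X.Modules]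

theorem main (P : X.Modules → Prop)
    (hrep : ∀ F : X.Modules, P F → Function.Bijective (D ω n t F))
    (hres : HasGoodRes P ω n) :
    ∀ (i : ℕ) (F : X.Modules), P F →
      (∀ j : ℕ, i + j = n → Nonempty (Ext F ω i ≃ₗ[k] Module.Dual k (Coh.HH X F j))) ∧
      (n < i → Subsingleton (Ext F ω i)) := by
  intro i
  induction i with
  | zero =>
    intro F hF
    refine ⟨?_, fun h => absurd h (Nat.not_lt_zero n)⟩
    intro j hj
    obtain rfl : j = n := by omega
    exact ⟨(Ext.linearEquiv₀ (R := k)).trans (LinearEquiv.ofBijective (D ω j t F) (hrep F hF))⟩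
  | succ i ih =>
    intro F hF
    obtain ⟨S, hS, rfl, hK, hE, hExt, hH⟩ := hres F hF
    rcases Nat.eq_zero_or_pos i with rfl | hi
    · -- the step from `Hom` to `Ext¹`
      have key : Nonempty (Ext S.X₃ ω 1 ≃ₗ[k]
          Module.Dual k (LinearMap.ker (toA k (HHmap S.f n)))) :=
        nonempty_linearEquiv_dual_ker (Linear.leftComp k ω S.f) (toA k (HHmap S.f n))
          (D ω n t S.X₂) (D ω n t S.X₁) (hrep _ hE).2 (hrep _ hK)
          (fun φ => D_comp ω n t S.f φ) (δ₀ (R := k) hS ω)
          (δ₀_surjective hS ω (hExt 1 Nat.one_pos)) (ker_δ₀ hS ω)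
      obtain ⟨e⟩ := key
      constructor
      · intro j hj
        obtain rfl : n = j + 1 := by omega
        obtain ⟨e'⟩ := nonempty_linearEquiv_of_injective_of_range_eq (toA k (HHδ S hS j)) _
          (HHδ_injective S hS j (hH j (Nat.lt_succ_self j))) (range_HHδ S hS j)
        exact ⟨e.trans e'.dualMap⟩
      · intro hn
        obtain rfl : n = 0 := by omega
        have hinj : LinearMap.ker (toA k (HHmap S.f 0)) = ⊥ :=
          LinearMap.ker_eq_bot.mpr (HHmap_f_zero_injective S hS)
        have : Subsingleton (LinearMap.ker (toA k (HHmap S.f 0))) := by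
          rw [hinj]
          infer_instance
        exact e.toEquiv.subsingleton
    · -- dimension shifting
      have hbij := δ_bijective (R := k) hS ω i (hExt i hi) (hExt (i + 1) (Nat.succ_pos i))
      let e := LinearEquiv.ofBijective (δ (R := k) hS ω i) hbij
      obtain ⟨ih1, ih2⟩ := ih S.X₁ hK
      constructor
      · intro j hj
        obtain ⟨e1⟩ := ih1 (j + 1) (by omega)
        have hb := HHδ_bijective (k := k) S hS j (hH j (by omega)) (hH (j + 1) (by omega))
        let e2 := LinearEquiv.ofBijective (toA k (HHδ S hS j)) hb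
        exact ⟨e.symm.trans (e1.trans e2.dualMap)⟩
      · intro hn
        have hsub : Subsingleton (Ext S.X₁ ω i) := by
          rcases Nat.lt_or_ge n i with h | h
          · exact ih2 h
          · obtain rfl : n = i := by omega
            obtain ⟨e1⟩ := ih1 0 (by omega)
            have h0 : Subsingleton (Coh.HH X S.X₁ 0) :=
              haveI := hH 0 hi
              (HHmap_f_zero_injective S hS).subsingleton
            exact e1.toEquiv.subsingleton
        exact e.symm.toEquiv.subsingleton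

end Groth.Agent.H98.SD3
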