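import Groth.Agent.H95.SerreFin
import Groth.Agent.H18.ProjSpaceVanish
import Groth.Agent.H98.SD3.Abstract

/-!
helper98 library (Serre duality chain, piece D3): `Ext^i(F, ω) ≃ H^{n-i}(P^n_k, F)^∨` on projective
space over a field, from (D2) (`ω` represents `H^n(-)^∨`, hypothesis `H14`) and (E) (vanishing of
`Ext^i(O(-q), ω)`, hypothesis `HE`).
-/

set_option autoImplicit false
universe u
open CategoryTheory CategoryTheory.Limits AlgebraicGeometry Abelian MvPolynomial

namespace Groth.Agent.H98.SD3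

open Groth.Agent.Lead.FiniteLES Groth.Agent.Lead.SigmaSplit

/-- the statement of S11314, as a proposition -/
def H14 (k : Type u) [Field k] (n : ℕ) : Prop :=
  ∃ t : Coh.HH (CohB1.ProjSpace n k) (Twist.twistProjSpace n k (-((n : ℤ) + 1))) n →ₗ[k] k,
    ∀ F : (CohB1.ProjSpace n k).Modules, Coh.IsCoh F → ∀ ψ : Coh.HH (CohB1.ProjSpace n k) F n →ₗ[k] k,
      ∃! φ : F ⟶ (Twist.twistProjSpace n k (-((n : ℤ) + 1))), ∀ x : Coh.HH (CohB1.ProjSpace n k) F n,
        ψ x = t (Sheaf.H.map ((SheafOfModules.toSheaf (CohB1.ProjSpace n k).ringCatSheaf).map φ) n x)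

/-- vanishing of the higher `Ext` groups from negative twists to `ω` (piece (E)) -/
def HE (k : Type u) [Field k] (n : ℕ) [HasExt.{u} (CohB1.ProjSpace n k).Modules] : Prop :=
  ∀ q i : ℕ, 0 < q → 0 < i →
    Subsingleton (Ext (Twist.twistProjSpace n k (-(q : ℤ))) (Twist.twistProjSpace n k (-((n : ℤ) + 1))) i)

section General

variable {Z : Scheme.{u}} [HasExt.{u} Z.Modules]

theorem subsingleton_ext_of_isZero (M N : Z.Modules) (hM : IsZero M) (i : ℕ) :
    Subsingleton (Ext M N i) := by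
  refine ⟨fun x y => ?_⟩
  have key : ∀ z : Ext M N i, z = 0 := by
    intro z
    have h1 : (Ext.mk₀ (𝟙 M)).comp z (zero_add i) = z := Ext.mk₀_id_comp z
    rw [hM.eq_of_src (𝟙 _) 0, Ext.mk₀_zero, Ext.zero_comp] at h1
    exact h1.symm
  rw [key x, key y]

theorem subsingleton_ext_pow (I N : Z.Modules) (i : ℕ) (h : Subsingleton (Ext I N i)) (r : ℕ) :
    Subsingleton (Ext (pow I r) N i) := by
  induction r with
  | zero => exact subsingleton_ext_of_isZero _ _ (isZero_pow_zero I) i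
  | succ r ih => exact subsingleton_ext_X₂ (S := ses I r) (splitting I r).shortExact N i h ih

end General

variable (k : Type u) [Field k] (n : ℕ)

theorem hrep_of_H14 (t : Coh.HH (CohB1.ProjSpace n k) (Twist.twistProjSpace n k (-((n : ℤ) + 1))) n →ₗ[k] k)
    (ht : ∀ F : (CohB1.ProjSpace n k).Modules, Coh.IsCoh F →
      ∀ ψ : Coh.HH (CohB1.ProjSpace n k) F n →ₗ[k] k,
      ∃! φ : F ⟶ (Twist.twistProjSpace n k (-((n : ℤ) + 1))), ∀ x : Coh.HH (CohB1.ProjSpace n k) F n,
        ψ x = t (Sheaf.H.map ((SheafOfModules.toSheaf (CohB1.ProjSpace n k).ringCatSheaf).map φ) n x))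
    (F : (CohB1.ProjSpace n k).Modules) (hF : Coh.IsCoh F) :
    Function.Bijective (D (Twist.twistProjSpace n k (-((n : ℤ) + 1))) n t F) := by
  constructor
  · intro φ φ' h
    refine (ht F hF (D _ n t F φ)).unique (fun x => rfl) (fun x => ?_)
    rw [h]
    rfl
  · intro ψ
    obtain ⟨φ, hφ, -⟩ := ht F hF ψ
    refine ⟨φ, ?_⟩
    ext x
    exact (hφ x).symm

variable [HasExt.{u} (CohB1.ProjSpace n k).Modules]

theorem hasGoodRes (hE : HE k n) :
    HasGoodRes (X := CohB1.ProjSpace n k) Coh.IsCoh (Twist.twistProjSpace n k (-((n : ℤ) + 1))) n := by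
  intro M hM
  classical
  have hs1 : ∀ f ∈ (Finset.univ.image (X : Fin (n + 1) → MvPolynomial (Fin (n + 1)) k)),
      f ∈ CohB1.polyGrading n k 1 := by
    intro f hf
    obtain ⟨a, -, rfl⟩ := Finset.mem_image.mp hf
    exact (mem_homogeneousSubmodule _ _).mpr (isHomogeneous_X k a)
  have hs : (HomogeneousIdeal.irrelevant (CohB1.polyGrading n k)).toIdeal =
      Ideal.span ((Finset.univ.image (X : Fin (n + 1) → MvPolynomial (Fin (n + 1)) k) :
        Finset _) : Set (MvPolynomial (Fin (n + 1)) k)) := by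
    rw [Finset.coe_image, Finset.coe_univ, Set.image_univ]
    refine le_antisymm (Groth.Agent.Lead.Coh.irrelevant_le_span_X n k) ?_
    rw [Ideal.span_le]
    rintro _ ⟨a, rfl⟩
    exact HomogeneousIdeal.mem_irrelevant_of_mem _ Nat.one_pos
      ((mem_homogeneousSubmodule _ _).mpr (isHomogeneous_X k a))
  obtain ⟨n₀, hn₀⟩ := Groth.Agent.S4402.result (CohB1.polyGrading n k) _ hs1 hs M hM.1 hM.2
  obtain ⟨r, p₀, hp₀⟩ := hn₀ (n₀ + 1) (Nat.le_succ n₀)
  let p : pow (Twist.twistProjSpace n k (-((n₀ + 1 : ℕ) : ℤ))) r ⟶ M := p₀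
  have hp : Epi p := hp₀
  let E : ShortComplex (CohB1.ProjSpace n k).Modules :=
    ShortComplex.mk (kernel.ι p) p (kernel.condition p)
  have hES : E.ShortExact :=
    { exact := ShortComplex.exact_of_f_is_kernel _ (kernelIsKernel p)
      mono_f := inferInstanceAs (Mono (kernel.ι p))
      epi_g := hp }
  have hpow : Coh.IsCoh (pow (Twist.twistProjSpace n k (-((n₀ + 1 : ℕ) : ℤ))) r) :=
    isCoh_pow _ (Groth.Agent.H95.SerreFin.isCoh_twist n k _) r
  have hK : Coh.IsCoh (kernel p) := Groth.Agent.S0026.isCoh_kernel _ _ p hpow hM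
  refine ⟨E, hES, rfl, hK, hpow, ?_, ?_⟩
  · intro i hi
    exact subsingleton_ext_pow _ _ i (hE (n₀ + 1) i (Nat.succ_pos n₀) hi) r
  · intro j hj
    refine Groth.Agent.H86.Serre.subsingleton_sigma _ j (fun _ => ?_)
    refine Groth.Agent.H18.PSL.subsingleton_HH_twist n k _ j ?_ ?_
    · rintro ⟨-, h⟩
      have : (0 : ℤ) ≤ ((n₀ + 1 : ℕ) : ℤ) := Int.natCast_nonneg _
      push_cast at h this
      omega
    · rintro ⟨rfl, -⟩
      exact lt_irrefl _ hj

/-- **(D3)**: Serre duality for `Ext` groups on `P^n_k`, conditional on (D2) and (E). -/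
theorem main_proj (h14 : H14 k n) (hE : HE k n) (F : (CohB1.ProjSpace n k).Modules) (hF : Coh.IsCoh F) :
    (∀ i : ℕ, i ≤ n → Nonempty (Abelian.Ext F (Twist.twistProjSpace n k (-((n : ℤ) + 1))) i ≃ₗ[k]
      Module.Dual k (Coh.HH (CohB1.ProjSpace n k) F (n - i)))) ∧
    ∀ i : ℕ, n < i → Subsingleton (Abelian.Ext F (Twist.twistProjSpace n k (-((n : ℤ) + 1))) i) := by
  obtain ⟨t, ht⟩ := h14
  have key := main (Twist.twistProjSpace n k (-((n : ℤ) + 1))) n t Coh.IsCoh
    (hrep_of_H14 k n t ht) (hasGoodRes k n hE)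
  exact ⟨fun i hi => (key i F hF).1 (n - i) (by omega), fun i hi => (key i F hF).2 hi⟩

end Groth.Agent.H98.SD3

namespace Groth.Agent.H98.SD3

/-- piece (E) in helper95's shape gives the hypothesis `HE` -/
theorem hE_of_ext_twist (k : Type u) [Field k] (n : ℕ) [HasExt.{u} (CohB1.ProjSpace n k).Modules]
    (hext : ∀ (a b : ℤ) (i : ℕ),
      Subsingleton (Coh.HH (CohB1.ProjSpace n k) (Twist.twistProjSpace n k (b - a)) i) →
      Subsingleton (Abelian.Ext (Twist.twistProjSpace n k a) (Twist.twistProjSpace n k b) i)) :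
    HE k n := by
  intro q i hq hi
  refine hext _ _ i (Groth.Agent.H18.PSL.subsingleton_HH_twist n k _ i ?_ ?_)
  · rintro ⟨rfl, -⟩
    exact lt_irrefl _ hi
  · rintro ⟨-, h⟩
    have : (1 : ℤ) ≤ (q : ℤ) := by exact_mod_cast hq
    omega

/-- the vanishing equivalence (S10950) from the duality isomorphisms -/
theorem subsingleton_iff_of_main (k : Type u) [Field k] (n : ℕ)
    [HasExt.{u} (CohB1.ProjSpace n k).Modules] (h14 : H14 k n) (hE : HE k n)
    (F : (CohB1.ProjSpace n k).Modules) (hF : Coh.IsCoh F) (i : ℕ) (hi : i ≤ n) :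
    Subsingleton (Abelian.Ext F (Twist.twistProjSpace n k (-((n : ℤ) + 1))) i) ↔
      Subsingleton (Coh.HH (CohB1.ProjSpace n k) F (n - i)) := by
  obtain ⟨e⟩ := (main_proj k n h14 hE F hF).1 i hi
  rw [e.toEquiv.subsingleton_congr]
  exact Module.subsingleton_dual_iff k

end Groth.Agent.H98.SD3
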